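import Groth.Agent.Lib.Lead.QC.AmpleFinite2
import Groth.Agent.Lib.Lead.QC.AffineAmple
import Groth.Agent.Lib.Helper5.VAmple.K
import Groth.Agent.Lib.Helper5.AG.ProjProper

/-!
# A quasi-projective scheme of dimension `d` over a Noetherian ring is covered by `d + 1` affines

Topological core: in a Noetherian quasi-sober space of dimension `d` in which every finite set of
points has a neighbourhood with property `P`, `d + 1` opens with property `P` cover.
-/

universe u

open TopologicalSpace Topology Order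

namespace Groth.Agent.LD.DimCover

section Top

variable {X : Type*} [TopologicalSpace X]

/-- chains of irreducible closed subsets inside `Z` have length `+ k ≤ d`. -/
def Q (d k : ℕ) (Z : Set X) : Prop :=
  ∀ s : LTSeries (IrreducibleCloseds X), (s.last : Set X) ⊆ Z → s.length + k ≤ d

theorem Q.mono {d k : ℕ} {Z Z' : Set X} (h : Q d k Z) (hZ : Z' ⊆ Z) : Q d k Z' :=
  fun s hs => h s (hs.trans hZ)

theorem Q_zero {d : ℕ} (hd : topologicalKrullDim X = d) : Q d 0 (Set.univ : Set X) := by
  intro s _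
  have h := LTSeries.length_le_krullDim s
  rw [show Order.krullDim (IrreducibleCloseds X) = topologicalKrullDim X from rfl, hd] at h
  have : s.length ≤ d := by exact_mod_cast h
  omega

theorem eq_empty_of_Q {d : ℕ} {Z : Set X} (hZ : IsClosed Z) (h : Q d (d + 1) Z) : Z = ∅ := by
  by_contra hne
  obtain ⟨x, hx⟩ := Set.nonempty_iff_ne_empty.mpr hne
  let T : IrreducibleCloseds X :=
    ⟨closure {x}, isIrreducible_singleton.closure, isClosed_closure⟩
  have := h (RelSeries.singleton _ T) (by
    simp only [RelSeries.last_singleton]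
    exact closure_minimal (Set.singleton_subset_iff.mpr hx) hZ)
  simp at this

theorem step [NoetherianSpace X] [QuasiSober X] (P : Opens X → Prop)
    (hP : ∀ Z : Finset X, ∃ U : Opens X, P U ∧ ∀ z ∈ Z, z ∈ U) {d k : ℕ} {Z : Set X}
    (hZ : IsClosed Z) (h : Q d k Z) : ∃ U : Opens X, P U ∧ Q d (k + 1) (Z \ (U : Set X)) := by
  classical
  obtain ⟨S, hSf, hSc, hSi, hSU⟩ := NoetherianSpace.exists_finite_set_isClosed_irreducible hZ
  have hgen : ∀ t : hSf.toFinset, ∃ x, IsGenericPoint x (t : Set X) := fun t =>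
    QuasiSober.sober (hSi _ (hSf.mem_toFinset.mp t.2)) (hSc _ (hSf.mem_toFinset.mp t.2))
  choose g hg using hgen
  obtain ⟨U, hPU, hU⟩ := hP (hSf.toFinset.attach.image g)
  refine ⟨U, hPU, fun s hs => ?_⟩
  obtain ⟨x, hx⟩ := QuasiSober.sober s.last.isIrreducible s.last.isClosed
  have hxT : x ∈ (s.last : Set X) := hx.mem
  have hxZ : x ∈ Z := (hs hxT).1
  rw [hSU] at hxZ
  obtain ⟨t, htS, hxt⟩ := hxZ
  have hTt : (s.last : Set X) ⊆ t := by
    rw [← hx.def]
    exact closure_minimal (Set.singleton_subset_iff.mpr hxt) (hSc t htS)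
  let t' : IrreducibleCloseds X := ⟨t, hSi t htS, hSc t htS⟩
  have hlt : s.last < t' := by
    refine lt_of_le_of_ne (show (s.last : Set X) ⊆ t from hTt) ?_
    intro heq
    let tt : hSf.toFinset := ⟨t, hSf.mem_toFinset.mpr htS⟩
    have h1 : g tt ∈ (t : Set X) := (hg tt).mem
    have h2 : g tt ∈ U := hU _ (Finset.mem_image.mpr ⟨tt, Finset.mem_attach _ _, rfl⟩)
    have h3 : g tt ∈ (s.last : Set X) := by rw [heq]; exact h1
    exact (hs h3).2 h2
  have := h (s.snoc t' hlt) (by
    simp only [RelSeries.last_snoc]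
    intro y hy
    rw [hSU]
    exact ⟨t, htS, hy⟩)
  simp only [RelSeries.snoc_length] at this
  omega

/-- **topological core**. -/
theorem main [NoetherianSpace X] [QuasiSober X] (P : Opens X → Prop)
    (hP : ∀ Z : Finset X, ∃ U : Opens X, P U ∧ ∀ z ∈ Z, z ∈ U) (d : ℕ)
    (hd : topologicalKrullDim X = d) :
    ∃ U : Fin (d + 1) → Opens X, (∀ i, P (U i)) ∧ ⨆ i, U i = ⊤ := by
  have key : ∀ k : ℕ, ∃ U : Fin k → Opens X, (∀ i, P (U i)) ∧
      Q d k (((⨆ i, U i : Opens X) : Set X)ᶜ) := by
    intro k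
    induction k with
    | zero =>
      refine ⟨fun i => i.elim0, fun i => i.elim0, ?_⟩
      exact (Q_zero hd).mono (Set.subset_univ _)
    | succ k ih =>
      obtain ⟨U, hU, hQ⟩ := ih
      obtain ⟨V, hV, hQV⟩ := step P hP (⨆ i, U i : Opens X).isOpen.isClosed_compl hQ
      refine ⟨Fin.snoc (α := fun _ => Opens X) U V, fun i => ?_, hQV.mono ?_⟩
      · refine Fin.lastCases ?_ (fun j => ?_) i
        · simpa using hV
        · simpa using hU j
      · intro x hx
        refine ⟨fun hxU => hx ?_, fun hxV => hx ?_⟩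
        · obtain ⟨j, hj⟩ := Opens.mem_iSup.mp hxU
          refine Opens.mem_iSup.mpr ⟨j.castSucc, ?_⟩
          simpa using hj
        · refine Opens.mem_iSup.mpr ⟨Fin.last k, ?_⟩
          simpa using hxV
  obtain ⟨U, hU, hQ⟩ := key (d + 1)
  refine ⟨U, hU, ?_⟩
  have := eq_empty_of_Q (⨆ i, U i : Opens X).isOpen.isClosed_compl hQ
  ext x
  simp only [Opens.coe_top, Set.mem_univ, iff_true]
  by_contra hx
  have : x ∈ ((⨆ i, U i : Opens X) : Set X)ᶜ := hx
  simp_all

end Top

open CategoryTheory Limits AlgebraicGeometry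

/-- a Noetherian separated scheme of dimension `d` with an ample invertible module is covered by
`d + 1` affine opens. -/
theorem cover_of_isAmple {X : Scheme.{u}} [NoetherianSpace X] [X.IsSeparated] (L : X.Modules)
    (hL : CohB1.IsAmple L) (d : ℕ) (hX : topologicalKrullDim X = d) :
    ∃ U : Fin (d + 1) → X.Opens, (∀ i, IsAffineOpen (U i)) ∧ ⨆ i, U i = ⊤ := by
  haveI : CompactSpace X := NoetherianSpace.compactSpace X
  refine main (X := X) (fun U => IsAffineOpen U) (fun Z => ?_) d hX
  obtain ⟨n, s, h1, -, h3⟩ := QC.exists_affine_genLocus_finset L hL Z.card Z rfl ⊤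
    (fun _ _ => trivial)
  exact ⟨_, h3, h1⟩

/-- **S11556**. -/
theorem main_S11556 (A : Type u) [CommRing A] [IsNoetherianRing A] (n d : ℕ) {X : Scheme.{u}}
    (j : X ⟶ CohB1.ProjSpaceOver n (Spec (CommRingCat.of A))) [IsImmersion j]
    (hX : topologicalKrullDim ↥X = d) :
    ∃ U : Fin (d + 1) → X.Opens, (∀ i, IsAffineOpen (U i)) ∧ ⨆ i, U i = ⊤ := by
  haveI := H5.AG.isProper_toBase n (Spec (CommRingCat.of A))
  haveI : IsLocallyNoetherian (CohB1.ProjSpaceOver n (Spec (CommRingCat.of A))) :=
    LocallyOfFiniteType.isLocallyNoetherian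
      (CohB1.ProjSpaceOver.toBase n (Spec (CommRingCat.of A)))
  haveI : CompactSpace (CohB1.ProjSpaceOver n (Spec (CommRingCat.of A))) :=
    QuasiCompact.compactSpace_of_compactSpace
      (CohB1.ProjSpaceOver.toBase n (Spec (CommRingCat.of A)))
  haveI : IsNoetherian (CohB1.ProjSpaceOver n (Spec (CommRingCat.of A))) := {}
  haveI : NoetherianSpace X := j.isEmbedding.isInducing.noetherianSpace
  haveI : IsSeparated (CohB1.ProjSpaceOver.toBase n (Spec (CommRingCat.of A))) := inferInstance
  haveI : IsSeparated (j ≫ CohB1.ProjSpaceOver.toBase n (Spec (CommRingCat.of A))) :=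
    inferInstance
  haveI : X.IsSeparated :=
    ⟨by
      have : terminal.from X = (j ≫ CohB1.ProjSpaceOver.toBase n (Spec (CommRingCat.of A))) ≫
          terminal.from (Spec (CommRingCat.of A)) := Subsingleton.elim _ _
      rw [this]; infer_instance⟩
  obtain ⟨L, hL⟩ := H5.VAmple.exists_isAmple_of_immersion
    ⟨QC.unitMod (Spec (CommRingCat.of A)),
      QC.isAmple_of_isAffine _ (QC.isInvertible_unit _)⟩ j
  exact cover_of_isAmple L hL d hX

end Groth.Agent.LD.DimCover
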